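import Cfsg.Agent.EqLemmas
import Cfsg.Agent.Lib.Bender.RankOneHalf
import Cfsg.Agent.Lib.Bender.Consumers
import Cfsg.Agent.S2089
import Cfsg.Agent.Lib.Suzuki.Multiplier

/-!
# A central extension of a Bender group whose involutions have distinguished lifts (owner: helper67)

`σ : Γ →* B` is surjective with central kernel and `D ⊆ Γ` is a conjugation invariant generating set of
involutions mapped bijectively onto the involutions of `B`, closed under products of commuting pairs.
If `B` is core free, generated by involutions and has a strongly embedded subgroup, then `σ.ker` has no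
involution (`Lifts.ker_odd`).
-/

set_option autoImplicit false
set_option linter.style.haveILetI false

namespace Cfsg.Agent.TightOddSE

open Cfsg Cfsg.Agent.Involution Cfsg.Agent.SuzukiRankOne
open scoped commutatorElement

universe u v

/-- Transfer: a perfect-part central 2-element in an abelian Sylow subgroup is trivial. -/
theorem eq_one_of_abelian_sylow {Γ : Type u} [Group Γ] [Finite Γ] (P : Sylow 2 Γ)
    (hP : ∀ x ∈ P, ∀ y ∈ P, Commute x y) {c : Γ} (hc : c ∈ Subgroup.center Γ) (hcP : c ∈ P)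
    (hcc : c ∈ commutator Γ) : c = 1 := by
  haveI : Fact (Nat.Prime 2) := ⟨Nat.prime_two⟩
  letI : CommGroup ↥(P : Subgroup Γ) :=
    { (inferInstance : Group ↥(P : Subgroup Γ)) with
      mul_comm := fun a b => Subtype.ext (hP a a.2 b b.2).eq }
  have key : ∀ (k : ℕ) (g₀ : Γ), g₀⁻¹ * c ^ k * g₀ ∈ (P : Subgroup Γ) →
      g₀⁻¹ * c ^ k * g₀ = c ^ k := fun k g₀ _ => by
    rw [mul_assoc, ← Subgroup.mem_center_iff.1 ((Subgroup.center Γ).pow_mem hc k) g₀, inv_mul_cancel_left]
  have h1 := MonoidHom.transfer_eq_pow (MonoidHom.id ↥(P : Subgroup Γ)) c key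
  have h2 : MonoidHom.transfer (MonoidHom.id ↥(P : Subgroup Γ)) c = 1 :=
    MonoidHom.mem_ker.1 (Abelianization.commutator_subset_ker _ hcc)
  rw [h2] at h1
  have h3 : c ^ (P : Subgroup Γ).index = 1 := (congrArg Subtype.val h1).symm
  obtain ⟨k, hk⟩ := P.isPGroup' ⟨c, hcP⟩
  have h4 : c ^ 2 ^ k = 1 := congrArg Subtype.val hk
  refine orderOf_eq_one_iff.1 (Nat.eq_one_of_dvd_coprimes ?_ (orderOf_dvd_of_pow_eq_one h4)
    (orderOf_dvd_of_pow_eq_one h3))
  exact Nat.Coprime.pow_left k ((Nat.prime_two.coprime_iff_not_dvd).2 P.not_dvd_index)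

variable {Γ : Type u} [Group Γ] {B : Type u} [Group B]

/-- Distinguished lifts of the involutions of `B`. -/
structure Lifts (σ : Γ →* B) (D : Set Γ) : Prop where
  surj : Function.Surjective σ
  central : σ.ker ≤ Subgroup.center Γ
  inv : ∀ d ∈ D, orderOf d = 2
  conj_mem : ∀ g : Γ, ∀ d ∈ D, g * d * g⁻¹ ∈ D
  ne_one : ∀ d ∈ D, σ d ≠ 1
  inj : Set.InjOn σ D
  lift : ∀ x : B, orderOf x = 2 → ∃ d ∈ D, σ d = x
  gen : Subgroup.closure D = ⊤
  mul : ∀ d ∈ D, ∀ e ∈ D, Commute d e → d ≠ e → d * e ∈ D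

namespace Lifts

variable {σ : Γ →* B} {D : Set Γ}

theorem commute_lift (h : Lifts σ D) {d y : Γ} (hd : d ∈ D) (hc : Commute (σ d) (σ y)) :
    Commute d y := by
  have h1 : y * d * y⁻¹ = d := h.inj (h.conj_mem y d hd) hd (by
    rw [map_mul, map_mul, map_inv, ← hc.eq, mul_inv_cancel_right])
  exact (eq_mul_inv_iff_mul_eq.1 h1.symm)

/-- Elements over commuting involutions commute. -/
theorem commute_over (h : Lifts σ D) {x y : Γ} (hx : orderOf (σ x) = 2) (hc : Commute (σ x) (σ y)) :
    Commute x y := by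
  obtain ⟨d, hd, he⟩ := h.lift _ hx
  have hk : x * d⁻¹ ∈ Subgroup.center Γ := h.central (by rw [MonoidHom.mem_ker, map_mul, map_inv, he, mul_inv_cancel])
  have h1 : Commute (x * d⁻¹) y := (Subgroup.mem_center_iff.1 hk y).symm
  have h2 := h1.mul_left (h.commute_lift hd (by rwa [he]))
  rwa [inv_mul_cancel_right] at h2

variable [Finite Γ] [Finite B]

omit [Finite Γ] [Finite B] in
/-- A Sylow 2-subgroup mapped into pairwise commuting involutions is abelian. -/
theorem sylow_comm (h : Lifts σ D) (P : Sylow 2 Γ)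
    (hP : ∀ x ∈ P, σ x * σ x = 1) : ∀ x ∈ P, ∀ y ∈ P, Commute x y := by
  intro x hx y hy
  have hc : Commute (σ x) (σ y) := by
    have h1 := hP _ ((P : Subgroup Γ).mul_mem hx hy)
    rw [map_mul] at h1
    show σ x * σ y = σ y * σ x
    calc σ x * σ y = σ x * (σ x * σ y * (σ x * σ y)) * σ y := by rw [h1, mul_one]
      _ = (σ x * σ x) * (σ y * σ x) * (σ y * σ y) := by group
      _ = σ y * σ x := by rw [hP x hx, hP y hy, one_mul, mul_one]
  rcases eq_or_ne (σ x) 1 with e | e
  · exact (Subgroup.mem_center_iff.1 (h.central e) y).symm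
  · exact h.commute_over (orderOf_of_sq (hP x hx) e) hc

omit [Finite B] in
/-- The contradiction: a central involution in the derived group of an extension with abelian Sylow. -/
theorem false_of_square (h : Lifts σ D) (hsq : ∀ P : Sylow 2 Γ, ∀ x ∈ P, σ x * σ x = 1)
    {c : Γ} (hc : orderOf c = 2) (hck : c ∈ σ.ker) (hcc : c ∈ commutator Γ) : False := by
  haveI : Fact (Nat.Prime 2) := ⟨Nat.prime_two⟩
  obtain ⟨P, hP⟩ := (IsPGroup.of_card (p := 2) (G := Subgroup.zpowers c) (n := 1)
    (by rw [Nat.card_zpowers, hc, pow_one])).exists_le_sylow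
  exact Involution.ne_one hc (eq_one_of_abelian_sylow P (h.sylow_comm P (hsq P)) (h.central hck)
    (hP (Subgroup.mem_zpowers c)) hcc)

omit [Finite Γ] [Finite B] in
/-- All distinguished lifts are conjugate. -/
theorem isConj (h : Lifts σ D) (hB : ∀ x y : B, orderOf x = 2 → orderOf y = 2 → IsConj x y)
    {d e : Γ} (hd : d ∈ D) (he : e ∈ D) : IsConj d e := by
  have hord : ∀ x ∈ D, orderOf (σ x) = 2 := fun x hx =>
    orderOf_of_sq (by rw [← map_mul, Involution.mul_self (h.inv x hx), map_one]) (h.ne_one x hx)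
  obtain ⟨b, hb⟩ := isConj_iff.1 (hB _ _ (hord d hd) (hord e he))
  obtain ⟨g, rfl⟩ := h.surj b
  exact isConj_iff.2 ⟨g, h.inj (h.conj_mem g d hd) he (by rw [map_mul, map_mul, map_inv, hb])⟩

omit [Finite Γ] [Finite B] in
theorem abelianization_eq (h : Lifts σ D) (hB : ∀ x y : B, orderOf x = 2 → orderOf y = 2 → IsConj x y)
    {d e : Γ} (hd : d ∈ D) (he : e ∈ D) : Abelianization.of d = Abelianization.of e := by
  obtain ⟨g, hg⟩ := isConj_iff.1 (h.isConj hB hd he)
  rw [← hg, map_mul, map_mul, map_inv, mul_comm (Abelianization.of g), mul_inv_cancel_right]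

variable {H : Subgroup B}

omit [Finite Γ] in
/-- With one involution class and two commuting involutions the extension is perfect. -/
theorem perfect (h : Lifts σ D) (hH : Cfsg.IsStronglyEmbedded H) (h2 : TwoInvolutions B) :
    commutator Γ = ⊤ := by
  have hcl : ∀ x y : B, orderOf x = 2 → orderOf y = 2 → IsConj x y := fun _ _ => isConj_involutions hH
  obtain ⟨x, y, hx, hy, hne, hxx, hyy, hxy⟩ := h2
  obtain ⟨d, hd, hdx⟩ := h.lift x (orderOf_of_sq hxx hx)
  obtain ⟨e, he, hey⟩ := h.lift y (orderOf_of_sq hyy hy)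
  have hc : Commute d e := h.commute_lift hd (by rw [hdx, hey]; exact hxy)
  have hde := h.mul d hd e he hc fun e' => hne (by rw [← hdx, ← hey, e'])
  have h1 := h.abelianization_eq hcl hde hd
  rw [map_mul, mul_eq_left] at h1
  have hker : D ⊆ (commutator Γ : Set Γ) := fun a ha => by
    rw [SetLike.mem_coe, ← Abelianization.ker_of, MonoidHom.mem_ker, h.abelianization_eq hcl ha he, h1]
  exact top_le_iff.1 (h.gen ▸ (Subgroup.closure_le _).2 hker)

/-- The case of a single involution in each centraliser. -/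
theorem ker_odd_rankOne (h : Lifts σ D) (hH : Cfsg.IsStronglyEmbedded H)
    (h2 : ¬ TwoInvolutions B) {c : Γ} (hc : orderOf c = 2) (hck : c ∈ σ.ker) : False := by
  haveI : Fact (Nat.Prime 2) := ⟨Nat.prime_two⟩
  have hcl : ∀ x y : B, orderOf x = 2 → orderOf y = 2 → IsConj x y := fun _ _ => isConj_involutions hH
  obtain ⟨t, -, ht⟩ := exists_involution_mem hH.2.1
  obtain ⟨d, hd, hdt⟩ := h.lift t ht
  set O := Cfsg.pPrimeCore 2 B with hO
  haveI hOn : O.Normal := Cores.pPrimeCore_normal 2 B
  set π := QuotientGroup.mk' O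
  have hOodd : Odd (Nat.card O) := Nat.coprime_two_right.1 (Cores.coprime_card_pPrimeCore (G := B) 2)
  -- modulo the odd core every element of `D` is `t`
  have hiso : Cfsg.IsIsolatedInvolution t := by
    obtain ⟨-, hu⟩ := Bender.isolated_case h2 t ht
    exact ⟨ht, fun x hx => hu _ (mem_centralizer_iff_commute.2 hx.symm) ((Involution.orderOf_conj x t).trans ht)⟩
  have hπt : ∀ a ∈ D, π (σ a) = π t := by
    intro a ha
    have hao : orderOf (σ a) = 2 :=
      orderOf_of_sq (by rw [← map_mul, Involution.mul_self (h.inv a ha), map_one]) (h.ne_one a ha)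
    obtain ⟨g, hg⟩ := isConj_iff.1 (hcl t _ ht hao)
    have h1 := ZStar.zStar_of_brauerSuzuki ZStar.uniqueInvolution hiso g
    have h3 : π (t * g * t⁻¹ * g⁻¹) = 1 := (QuotientGroup.eq_one_iff _).2 h1
    have h4 : π t = π (g * t * g⁻¹) := by
      have e : t * g * t⁻¹ * g⁻¹ = t * (g * t * g⁻¹)⁻¹ := by group
      rw [e, map_mul, map_inv, mul_inv_eq_one] at h3
      exact h3
    rw [← hg, h4]
  have htwo : ∀ g : Γ, π (σ g) = 1 ∨ π (σ g) = π t := by
    intro g
    have hg : g ∈ Subgroup.closure D := h.gen ▸ Subgroup.mem_top g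
    induction hg using Subgroup.closure_induction with
    | mem a ha => exact Or.inr (hπt a ha)
    | one => exact Or.inl (by simp)
    | mul a b _ _ ha hb =>
      rw [map_mul, map_mul]
      rcases ha with ha | ha <;> rcases hb with hb | hb <;> rw [ha, hb]
      · exact Or.inl (one_mul _)
      · exact Or.inr (one_mul _)
      · exact Or.inr (mul_one _)
      · exact Or.inl (by rw [← map_mul, Involution.mul_self ht, map_one])
    | inv a _ ha =>
      rw [map_inv, map_inv]
      rcases ha with ha | ha <;> rw [ha]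
      · exact Or.inl inv_one
      · exact Or.inr (by rw [← map_inv, Involution.inv_eq ht])
  have hsq : ∀ P : Sylow 2 Γ, ∀ x ∈ P, σ x * σ x = 1 := by
    intro P x hx
    have h1 : σ x * σ x ∈ O := (QuotientGroup.eq_one_iff _).1 (show π (σ x * σ x) = 1 by
      rw [map_mul]
      rcases htwo x with e | e <;> rw [e]
      · exact one_mul _
      · rw [← map_mul, Involution.mul_self ht, map_one])
    obtain ⟨k, hk⟩ := P.isPGroup' ⟨x, hx⟩
    have h3 : (σ x * σ x) ^ 2 ^ k = 1 := by
      rw [← map_mul, ← map_pow, (Commute.refl x).mul_pow, show x ^ 2 ^ k = 1 from congrArg Subtype.val hk,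
        one_mul, map_one]
    exact orderOf_eq_one_iff.1 (Nat.eq_one_of_dvd_coprimes
      ((Nat.coprime_two_left.2 hOodd).pow_left k) (orderOf_dvd_of_pow_eq_one h3)
      (Subgroup.orderOf_dvd_natCard _ h1))
  refine h.false_of_square hsq hc hck ?_
  -- the abelianisation has order two and `σ` is non-trivial on it
  set α := Abelianization.of d
  have hab : ∀ g : Γ, Abelianization.of g = 1 ∨ Abelianization.of g = α := by
    intro g
    have hα : α * α = 1 := by rw [← map_mul, Involution.mul_self (h.inv d hd), map_one]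
    have hg : g ∈ Subgroup.closure D := h.gen ▸ Subgroup.mem_top g
    induction hg using Subgroup.closure_induction with
    | mem a ha => exact Or.inr (h.abelianization_eq hcl ha hd)
    | one => exact Or.inl (map_one _)
    | mul a b _ _ ha hb =>
      rw [map_mul]
      rcases ha with ha | ha <;> rcases hb with hb | hb <;> rw [ha, hb]
      · exact Or.inl (one_mul _)
      · exact Or.inr (one_mul _)
      · exact Or.inr (mul_one _)
      · exact Or.inl hα
    | inv a _ ha =>
      rw [map_inv]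
      rcases ha with ha | ha <;> rw [ha]
      · exact Or.inl inv_one
      · exact Or.inr (inv_eq_of_mul_eq_one_right hα)
  rcases hab c with e | e
  · rwa [← MonoidHom.mem_ker, Abelianization.ker_of] at e
  · exfalso
    have h1 : d * c⁻¹ ∈ commutator Γ := by
      rw [← Abelianization.ker_of, MonoidHom.mem_ker, map_mul, map_inv, e, mul_inv_cancel]
    have h3 : t ∈ commutator B := by
      have := Subgroup.mem_map_of_mem σ h1
      rw [commutator_def, Subgroup.map_commutator, map_mul, map_inv, hck, inv_one, mul_one, hdt] at this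
      exact Subgroup.commutator_mono le_top le_top this
    have hle : commutator B ≤ O := by
      rw [commutator_def, Subgroup.commutator_le]
      intro a _ b _
      rw [← QuotientGroup.eq_one_iff]
      show π ⁅a, b⁆ = 1
      obtain ⟨ga, rfl⟩ := h.surj a
      obtain ⟨gb, rfl⟩ := h.surj b
      rw [map_commutatorElement, commutatorElement_eq_one_iff_mul_comm]
      rcases htwo ga with ea | ea <;> rcases htwo gb with eb | eb <;> rw [ea, eb] <;> simp
    exact not_mem_of_odd_order hOodd ht (hle h3)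
where
  not_mem_of_odd_order {O : Subgroup B} (hO : Odd (Nat.card O)) {t : B} (ht : orderOf t = 2) (h : t ∈ O) :
      False := (Involution.odd_iff_no_involution O).1 hO t h ht

/-- Transport of a finite group to `Fin n`. -/
theorem exists_small (Γ : Type u) [Group Γ] [Finite Γ] :
    ∃ (Γ₀ : Type) (_ : Group Γ₀) (_ : Finite Γ₀), Nonempty (Γ₀ ≃* Γ) := by
  obtain ⟨n, ⟨e⟩⟩ := Finite.exists_equiv_fin Γ
  letI : Group (Fin n) := e.symm.group
  exact ⟨Fin n, _, inferInstance, ⟨e.symm.mulEquiv⟩⟩

omit [Finite Γ] [Finite B] in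
theorem stem_comp {B' : Type v} [Group B'] (φ : B ≃* B') (h : Cfsg.IsStemExtension σ) :
    Cfsg.IsStemExtension (φ.toMonoidHom.comp σ) := by
  have e : (φ.toMonoidHom.comp σ).ker = σ.ker := by ext x; simp [MonoidHom.mem_ker]
  exact ⟨φ.surjective.comp h.1, e ▸ h.2.1, e ▸ h.2.2⟩

/-- The case of two commuting involutions. -/
theorem ker_odd_two (h : Lifts σ D) (hH : Cfsg.IsStronglyEmbedded H) (hc0 : H.normalCore = ⊥)
    (h2 : TwoInvolutions B) (hgen : Subgroup.closure {x : B | orderOf x = 2} = ⊤)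
    {c : Γ} (hc : orderOf c = 2) (hck : c ∈ σ.ker) : False := by
  haveI : Fact (Nat.Prime 2) := ⟨Nat.prime_two⟩
  have hperf := h.perfect hH h2
  have hcc : c ∈ commutator Γ := hperf ▸ Subgroup.mem_top c
  have hstem : Cfsg.IsStemExtension σ := ⟨h.surj, h.central, hperf ▸ le_top⟩
  obtain ⟨t, Q, hs⟩ := Bender.rankOneHalf B H hH hc0 h2
  haveI := Bender.faithful_of_normalCore hc0
  obtain ⟨hQ2, hel⟩ := kernelShape B (B ⧸ H) _ t Q hs h2
  by_cases hcomm : IsMulCommutative Q
  · refine h.false_of_square (fun P x hx => ?_) hc hck hcc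
    obtain ⟨-, ⟨S, hS⟩, -⟩ := Bender.sylow_normal hs h2
    obtain ⟨T, hT⟩ := ((P.isPGroup').map σ).exists_le_sylow
    obtain ⟨g, rfl⟩ := MulAction.exists_smul_eq B S T
    have h1 := hT (Subgroup.mem_map_of_mem σ hx)
    obtain ⟨s, hs', e⟩ := h1
    change s ∈ (S : Subgroup B) at hs'
    rw [hS] at hs'
    rw [← e]
    show g * s * g⁻¹ * (g * s * g⁻¹) = 1
    rw [show g * s * g⁻¹ * (g * s * g⁻¹) = g * (s * s) * g⁻¹ by group, hel hcomm s hs', mul_one, mul_inv_cancel]
  obtain ⟨n, hn, hq, ⟨C⟩⟩ := exists_coords hs h2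
  have hcard : Nat.card (GaloisField 2 n) = param B (((1 : B) : B ⧸ H)) := by
    rw [hq, GaloisField.card 2 n (by omega)]
  have htop : ∀ L : Subgroup B, L.Normal → Odd L.index → L = ⊤ := by
    intro L hL hodd
    refine top_le_iff.1 (hgen ▸ (Subgroup.closure_le _).2 fun x hx => (QuotientGroup.eq_one_iff x).1 ?_)
    refine orderOf_eq_one_iff.1 (Nat.eq_one_of_dvd_coprimes (Nat.coprime_two_left.2 hodd) ?_
      (orderOf_dvd_natCard (G := B ⧸ L) _))
    have h3 := orderOf_map_dvd (QuotientGroup.mk' L) x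
    rwa [show orderOf x = 2 from hx] at h3
  rcases C.card_cases hs h2 hQ2 hcomm with e | e <;> rw [hcard] at e
  · obtain ⟨L, hL, hodd, F, _, _, m, hm, hF, ⟨ψ⟩⟩ :=
      Suzuki.suzukiShape B (B ⧸ H) _ t Q hs h2 hQ2 hcomm e
    obtain rfl := htop L hL hodd
    let φ : B ≃* Cfsg.Sz F m := (Subgroup.topEquiv.symm.trans ψ).trans (Suzuki.lieEquiv hm hF).symm
    have hσ' := stem_comp φ hstem
    refine Involution.ne_one hc (Suzuki.twoPart_trivial_of_pairing hF hm hσ'
      (fun b a x y hx hy => ?_) (show c ∈ _ by simp [MonoidHom.mem_ker, MonoidHom.mem_ker.1 hck])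
      (by rw [sq, Involution.mul_self hc]))
    have hcφ : Commute (σ x) (σ y) := by
      have h1 : Commute (φ (σ x)) (φ (σ y)) := by
        rw [show φ (σ x) = _ from hx, show φ (σ y) = _ from hy]
        show _ * _ = _ * _
        rw [Suzuki.tSz_mul, Suzuki.tSz_mul]
        congr 1 <;> simp [Suzuki.th]
      have := h1.map φ.symm.toMonoidHom
      simpa using this
    rw [commutatorElement_eq_one_iff_mul_comm]
    rcases eq_or_ne (σ x) 1 with e1 | e1
    · exact (Subgroup.mem_center_iff.1 (h.central e1) y).symm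
    · refine h.commute_over (orderOf_of_sq ?_ e1) hcφ
      apply φ.injective
      haveI := Suzuki.charTwo hF
      rw [map_mul, map_one, show φ (σ x) = _ from hx, Suzuki.tSz_mul, Suzuki.tSz_eq_one_iff]
      constructor <;> simp [Suzuki.th] <;> grind
  · obtain ⟨L, hL, hodd, F, _, _, k, hk, hF, ⟨ψ⟩⟩ := unitary_case hs h2 hQ2 hcomm e
    obtain rfl := htop L hL hodd
    obtain ⟨Γ₀, _, _, ⟨ε⟩⟩ := exists_small Γ
    have hσ₁ := stem_comp (Subgroup.topEquiv.symm.trans ψ) hstem
    set σ₁ := (Subgroup.topEquiv.symm.trans ψ).toMonoidHom.comp σ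
    have hmult := Cfsg.Agent.S2089.result (F := F) 3 (2 ^ k) hF le_rfl
      (fun hh => by have := Nat.pow_le_pow_right (show 1 ≤ 2 by norm_num) hk; omega)
      (by simp)
    have hσ₀ : Cfsg.IsStemExtension (σ₁.comp ε.toMonoidHom) := by
      refine ⟨hσ₁.1.comp ε.surjective, fun x hx => ?_, fun x hx => ?_⟩
      · rw [Subgroup.mem_center_iff]
        intro g
        apply ε.injective
        rw [map_mul, map_mul]
        exact Subgroup.mem_center_iff.1 (hσ₁.2.1 hx) (ε g)
      · have h1 := Subgroup.mem_map_of_mem ε.symm.toMonoidHom (hσ₁.2.2 (show ε x ∈ σ₁.ker from hx))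
        rw [commutator_def, Subgroup.map_commutator] at h1
        have h1' := Subgroup.commutator_mono le_top le_top h1
        simpa [commutator_def] using h1'
    obtain ⟨π, hπ⟩ := hmult.2 Γ₀ (σ₁.comp ε.toMonoidHom) hσ₀
    let c₀ : (σ₁.comp ε.toMonoidHom).ker := ⟨ε.symm c, by
      simp [σ₁, MonoidHom.mem_ker, MonoidHom.mem_ker.1 hck]⟩
    have ho : orderOf c₀ = 2 := by
      rw [← Subgroup.orderOf_coe]
      show orderOf (ε.symm c) = 2
      rw [MulEquiv.orderOf_eq, hc]
    obtain ⟨a, ha⟩ := hπ c₀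
    have hd : orderOf c₀ ∣ Nat.gcd 3 (2 ^ k + 1) := by
      rw [← ha]
      exact ((orderOf_map_dvd π a).trans (orderOf_dvd_natCard a)).trans
        (by rw [Nat.card_congr Multiplicative.toAdd, Nat.card_zmod])
    rw [ho] at hd
    have := hd.trans (Nat.gcd_dvd_left _ _)
    omega

/-- The kernel has no involution. -/
theorem ker_odd (h : Lifts σ D) (hH : Cfsg.IsStronglyEmbedded H) (hc0 : H.normalCore = ⊥)
    (hgen : Subgroup.closure {x : B | orderOf x = 2} = ⊤) {c : Γ} (hc : orderOf c = 2)
    (hck : c ∈ σ.ker) : False :=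
  (em (TwoInvolutions B)).elim (fun h2 => h.ker_odd_two hH hc0 h2 hgen hc hck)
    (fun h2 => h.ker_odd_rankOne hH h2 hc hck)

end Lifts

end Cfsg.Agent.TightOddSE
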