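import Cfsg.Agent.EqLemmas
import Cfsg.Agent.Lib.Bender.RankOneHalf
import Cfsg.Agent.Lib.Bender.Consumers
import Cfsg.Agent.Lib.Coprime.Invariant

/-!
# A 2-element of a point stabiliser centralising a two point stabiliser modulo `W` (owner: helper67)

`mem_of_twoPoint` : in a group with a core-free strongly embedded subgroup `H`, let `W` be normalised by
`H`, contain an involution of `H`, and let `τ ∈ H` be a 2-element with `τ r τ⁻¹ r⁻¹ ∈ W (H ∩ H^l)` for all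
`r ∈ H ∩ H^l`, for some `l ∉ H`. Then `τ ∈ W`.
-/

set_option autoImplicit false
set_option linter.style.haveILetI false

namespace Cfsg.Agent.TightOddSE

open Cfsg Cfsg.Agent.Involution Cfsg.Agent.SuzukiRankOne MulAction

universe u v

variable {B : Type u} [Group B] [Finite B]

/-- The centraliser of the two point stabiliser in the kernel of a rank one set-up is trivial. -/
theorem eq_one_of_centralize {Ω : Type v} [MulAction B Ω] [FaithfulSMul B Ω] {a : Ω} {t : B}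
    {Q : Subgroup B} (hs : Cfsg.IsRankOneSetup B Ω a t Q) (h2 : TwoInvolutions B) (hQ2 : IsPGroup 2 Q)
    {x : B} (hx : x ∈ Q)
    (hc : x ∈ Subgroup.centralizer ((stabilizer B a ⊓ stabilizer B (t • a) : Subgroup B) : Set B)) :
    x = 1 := by
  haveI : Fact (Nat.Prime 2) := ⟨Nat.prime_two⟩
  by_contra hne
  obtain ⟨p, hp, k, hk, hko⟩ := RankOne.Setup.exists_kk_prime hs h2
  have hk1 : k ≠ 1 := fun e => hp.ne_one (by rw [← hko, e, orderOf_one])
  obtain ⟨n, hn⟩ := hQ2 ⟨x, hx⟩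
  have h2x : 2 ∣ orderOf x := by
    obtain ⟨i, -, hi⟩ := (Nat.dvd_prime_pow Nat.prime_two).1
      (orderOf_dvd_of_pow_eq_one (show x ^ 2 ^ n = 1 from congrArg Subtype.val hn))
    rw [hi]
    exact dvd_pow_self 2 fun h0 => hne (orderOf_eq_one_iff.1 (by rw [hi, h0, pow_zero]))
  have hw : orderOf (x ^ (orderOf x / 2)) = 2 := orderOf_pow_orderOf_div (orderOf_pos x).ne' h2x
  exact RankOne.Setup.kk_no_involution hs h2 hk hk1 (ne_one hw) (mul_self hw)
    (Subgroup.mem_centralizer_iff.1 (Subgroup.pow_mem _ hc _) k hk.1)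

/-- In a rank one set-up. -/
theorem mem_of_setup {Ω : Type v} [MulAction B Ω] [FaithfulSMul B Ω] {a : Ω} {t : B}
    {Q : Subgroup B} (hs : Cfsg.IsRankOneSetup B Ω a t Q) (h2 : TwoInvolutions B) (hQ2 : IsPGroup 2 Q)
    {W : Subgroup B} (hW : W ≤ stabilizer B a)
    (hWn : ∀ g ∈ stabilizer B a, ∀ w ∈ W, g * w * g⁻¹ ∈ W) {τ : B} (hτ : τ ∈ Q)
    (hyp : ∀ r ∈ stabilizer B a ⊓ stabilizer B (t • a),
      τ * r * τ⁻¹ * r⁻¹ ∈ W ⊔ (stabilizer B a ⊓ stabilizer B (t • a))) : τ ∈ W := by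
  haveI : Fact (Nat.Prime 2) := ⟨Nat.prime_two⟩
  set R := stabilizer B a ⊓ stabilizer B (t • a) with hR
  have hRW : R ≤ Subgroup.normalizer (W : Set B) := fun r hr =>
    Coprime.mem_normalizer_of_forall fun w hw => hWn r hr.1 w hw
  have hRQ : R ≤ Subgroup.normalizer (Q : Set B) := fun r hr =>
    RankOne.Setup.mem_normalizer_Q hs h2 hr.1
  have hRodd : Odd (Nat.card R) := hs.odd_card
  -- the 2-elements of `W R` lie in `W`
  have key : ∀ x ∈ Q, x ∈ W ⊔ R → x ∈ W := by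
    intro x hx hxJ
    set J := W ⊔ R with hJ
    have hJn : J ≤ Subgroup.normalizer (W : Set B) := sup_le Subgroup.le_normalizer hRW
    haveI : (W.subgroupOf J).Normal := Subgroup.normal_subgroupOf_of_le_normalizer hJn
    obtain ⟨w, hw, r, hr, e⟩ := (Coprime.mem_sup_iff hRW).1 hxJ
    have e1 : ((⟨x, hxJ⟩ : J) : J ⧸ W.subgroupOf J) = ((⟨r, Subgroup.mem_sup_right hr⟩ : J) : J ⧸ W.subgroupOf J) := by
      rw [QuotientGroup.eq_iff_div_mem, Subgroup.mem_subgroupOf]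
      show x / r ∈ W
      rw [← e, mul_div_assoc, div_self', mul_one]
      exact hw
    obtain ⟨n, hn⟩ := hQ2 ⟨x, hx⟩
    have h1 : orderOf ((⟨x, hxJ⟩ : J) : J ⧸ W.subgroupOf J) ∣ 2 ^ n :=
      (orderOf_map_dvd (QuotientGroup.mk' (W.subgroupOf J)) (⟨x, hxJ⟩ : J)).trans
        (orderOf_dvd_of_pow_eq_one (Subtype.ext (show x ^ 2 ^ n = 1 from congrArg Subtype.val hn)))
    have h3 : orderOf ((⟨x, hxJ⟩ : J) : J ⧸ W.subgroupOf J) ∣ Nat.card R := by
      rw [e1]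
      refine (orderOf_map_dvd (QuotientGroup.mk' (W.subgroupOf J))
        (⟨r, Subgroup.mem_sup_right hr⟩ : J)).trans ?_
      rw [Subgroup.orderOf_mk]
      exact Subgroup.orderOf_dvd_natCard R hr
    have h4 := orderOf_eq_one_iff.1
      (Nat.eq_one_of_dvd_coprimes ((Nat.coprime_two_left.2 hRodd).pow_left n) h1 h3)
    exact Subgroup.mem_subgroupOf.1 ((QuotientGroup.eq_one_iff _).1 h4)
  have hstab : τ ∈ stabilizer B a := hs.le hτ
  have hfix : ∀ r ∈ R, τ⁻¹ * r * τ * r⁻¹ ∈ W ⊓ Q := by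
    intro r hr
    have hxQ : τ * r * τ⁻¹ * r⁻¹ ∈ Q := by
      rw [show τ * r * τ⁻¹ * r⁻¹ = τ * (r * τ⁻¹ * r⁻¹) by group]
      exact Q.mul_mem hτ (hs.conj_mem r hr.1 _ (Q.inv_mem hτ))
    have hxW := key _ hxQ (hyp r hr)
    rw [show τ⁻¹ * r * τ * r⁻¹ = τ⁻¹ * (τ * r * τ⁻¹ * r⁻¹)⁻¹ * τ⁻¹⁻¹ by group]
    exact ⟨hWn _ (inv_mem hstab) _ (W.inv_mem hxW),
      Q.mul_mem (Q.mul_mem (Q.inv_mem hτ) (Q.inv_mem hxQ)) (Q.inv_mem (Q.inv_mem hτ))⟩
  obtain ⟨k, hk⟩ := IsPGroup.iff_card.1 hQ2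
  obtain ⟨c, hc, hcN⟩ := Coprime.exists_mem_centralizer_of_coset' hRQ
    (by rw [hk]; exact (Nat.coprime_two_right.2 hRodd).pow_right k)
    (Or.inr (by haveI := hQ2.isNilpotent; infer_instance)) (inf_le_right : W ⊓ Q ≤ Q)
    (fun r hr => Coprime.mem_normalizer_of_forall fun w hw =>
      ⟨hWn r hr.1 w hw.1, hs.conj_mem r hr.1 w hw.2⟩) hτ hfix
  rw [eq_one_of_centralize hs h2 hQ2 hc.1 hc.2, mul_one, inv_mem_iff] at hcN
  exact hcN.1

variable {H : Subgroup B}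

/-- The rank one case: the 2-elements of `H` are trivial or involutions. -/
theorem mul_self_of_rankOne (hgen : Subgroup.closure {x : B | orderOf x = 2} = ⊤)
    (hH : Cfsg.IsStronglyEmbedded H) (h2 : ¬ TwoInvolutions B) {τ : B} {n : ℕ} (hτ : τ ^ 2 ^ n = 1) :
    τ * τ = 1 := by
  haveI : Fact (Nat.Prime 2) := ⟨Nat.prime_two⟩
  obtain ⟨t, -, ht⟩ := exists_involution_mem hH.2.1
  set O := Cfsg.pPrimeCore 2 B with hO
  haveI hOn : O.Normal := Cores.pPrimeCore_normal 2 B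
  set π := QuotientGroup.mk' O
  have hOodd : Odd (Nat.card O) := Nat.coprime_two_right.1 (Cores.coprime_card_pPrimeCore (G := B) 2)
  have hiso : Cfsg.IsIsolatedInvolution t := by
    obtain ⟨-, hu⟩ := Bender.isolated_case h2 t ht
    exact ⟨ht, fun x hx => hu _ (mem_centralizer_iff_commute.2 hx.symm) ((Involution.orderOf_conj x t).trans ht)⟩
  have htwo : ∀ g : B, π g = 1 ∨ π g = π t := by
    intro g
    have hg : g ∈ Subgroup.closure {x : B | orderOf x = 2} := hgen ▸ Subgroup.mem_top g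
    induction hg using Subgroup.closure_induction with
    | mem a ha =>
      obtain ⟨b, hb⟩ := isConj_iff.1 (isConj_involutions hH ht ha)
      have h1 : π (t * b * t⁻¹ * b⁻¹) = 1 :=
        (QuotientGroup.eq_one_iff _).2 (ZStar.zStar_of_brauerSuzuki ZStar.uniqueInvolution hiso b)
      have e : t * b * t⁻¹ * b⁻¹ = t * (b * t * b⁻¹)⁻¹ := by group
      rw [e, hb, map_mul, map_inv, mul_inv_eq_one] at h1
      exact Or.inr h1.symm
    | one => exact Or.inl (map_one _)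
    | mul a b _ _ ha hb =>
      rw [map_mul]
      rcases ha with ha | ha <;> rcases hb with hb | hb <;> rw [ha, hb]
      · exact Or.inl (one_mul _)
      · exact Or.inr (one_mul _)
      · exact Or.inr (mul_one _)
      · exact Or.inl (by rw [← map_mul, mul_self ht, map_one])
    | inv a _ ha =>
      rw [map_inv]
      rcases ha with ha | ha <;> rw [ha]
      · exact Or.inl inv_one
      · exact Or.inr (by rw [← map_inv, inv_eq ht])
  have h1 : τ * τ ∈ O := (QuotientGroup.eq_one_iff _).1 (show π (τ * τ) = 1 by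
    rw [map_mul]
    rcases htwo τ with e | e <;> rw [e]
    · exact one_mul _
    · rw [← map_mul, mul_self ht, map_one])
  have h3 : (τ * τ) ^ 2 ^ n = 1 := by rw [(Commute.refl τ).mul_pow, hτ, one_mul]
  exact orderOf_eq_one_iff.1 (Nat.eq_one_of_dvd_coprimes
    ((Nat.coprime_two_left.2 hOodd).pow_left n) (orderOf_dvd_of_pow_eq_one h3)
    (Subgroup.orderOf_dvd_natCard _ h1))

/-- The two point lemma. -/
theorem mem_of_twoPoint (hgen : Subgroup.closure {x : B | orderOf x = 2} = ⊤)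
    (hH : Cfsg.IsStronglyEmbedded H) (hc0 : H.normalCore = ⊥) {W : Subgroup B} (hW : W ≤ H)
    (hWn : ∀ g ∈ H, ∀ w ∈ W, g * w * g⁻¹ ∈ W) {z : B} (hz : orderOf z = 2) (hzW : z ∈ W)
    {τ : B} (hτ : τ ∈ H) {n : ℕ} (hn : τ ^ 2 ^ n = 1) {l : B} (hl : l ∉ H)
    (hyp : ∀ r ∈ H, l⁻¹ * r * l ∈ H →
      ∃ w ∈ W, ∃ r' ∈ H, l⁻¹ * r' * l ∈ H ∧ τ * r * τ⁻¹ * r⁻¹ = w * r') : τ ∈ W := by
  haveI : Fact (Nat.Prime 2) := ⟨Nat.prime_two⟩
  by_cases h2 : TwoInvolutions B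
  swap
  · rcases eq_or_ne τ 1 with rfl | hne
    · exact W.one_mem
    obtain ⟨h, hh, e⟩ := exists_conj_in hH hz (hW hzW)
      (orderOf_of_sq (mul_self_of_rankOne hgen hH h2 hn) hne) hτ
    exact e ▸ hWn h hh z hzW
  obtain ⟨t, Q, hs⟩ := Bender.rankOneHalf B H hH hc0 h2
  haveI := Bender.faithful_of_normalCore hc0
  obtain ⟨hQ2, -⟩ := kernelShape B (B ⧸ H) _ t Q hs h2
  obtain ⟨-, -, hrel⟩ := Bender.sylow_normal hs h2
  set a : B ⧸ H := ((1 : B) : B ⧸ H) with ha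
  have hst : stabilizer B a = H := stabilizer_quotient H
  -- `τ` lies in the kernel
  have hτQ : τ ∈ Q := by
    haveI : (Q.subgroupOf (stabilizer B a)).Normal :=
      Subgroup.normal_subgroupOf_of_le_normalizer fun g hg => RankOne.Setup.mem_normalizer_Q hs h2 hg
    have hta : τ ∈ stabilizer B a := hst.ge hτ
    have h1 : orderOf ((⟨τ, hta⟩ : stabilizer B a) : stabilizer B a ⧸ Q.subgroupOf (stabilizer B a)) ∣ 2 ^ n :=
      (orderOf_map_dvd (QuotientGroup.mk' _) _).trans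
        (orderOf_dvd_of_pow_eq_one (Subtype.ext hn))
    have h3 : orderOf ((⟨τ, hta⟩ : stabilizer B a) : stabilizer B a ⧸ Q.subgroupOf (stabilizer B a)) ∣
        Q.relIndex (stabilizer B a) := orderOf_dvd_natCard _
    exact Subgroup.mem_subgroupOf.1 ((QuotientGroup.eq_one_iff _).1 (orderOf_eq_one_iff.1
      (Nat.eq_one_of_dvd_coprimes ((Nat.coprime_two_left.2 hrel).pow_left n) h1 h3)))
  have hlb : (l : B ⧸ H) ≠ a := fun e => hl (by
    rw [ha, QuotientGroup.eq, mul_one, inv_mem_iff] at e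
    exact e)
  obtain ⟨x, hx, hxb⟩ := RankOne.Setup.exists_smul_eq hs hlb
  have hxa : x ∈ H := hst.le (hs.le hx)
  have hiffb : ∀ r : B, r ∈ stabilizer B (t • a) ↔ l⁻¹ * (x * r * x⁻¹) * l ∈ H := by
    intro r
    rw [← smul_mk_eq_iff, mem_stabilizer_iff, ← hxb, mul_smul, mul_smul, inv_smul_smul]
    exact (smul_left_cancel_iff x).symm
  have hW' : W ≤ stabilizer B a := hW.trans hst.ge
  have key : x⁻¹ * τ * x ∈ W := by
    refine mem_of_setup hs h2 hQ2 hW' (fun g hg => hWn g (hst.le hg))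
      (Q.mul_mem (Q.mul_mem (Q.inv_mem hx) hτQ) hx) fun r hr => ?_
    have hrH : r ∈ H := hst.le hr.1
    obtain ⟨w, hw, r', hr'H, hr'l, e⟩ :=
      hyp (x * r * x⁻¹) (H.mul_mem (H.mul_mem hxa hrH) (H.inv_mem hxa)) ((hiffb r).1 hr.2)
    have e' : x⁻¹ * τ * x * r * (x⁻¹ * τ * x)⁻¹ * r⁻¹ = (x⁻¹ * w * x⁻¹⁻¹) * (x⁻¹ * r' * x) := by
      calc x⁻¹ * τ * x * r * (x⁻¹ * τ * x)⁻¹ * r⁻¹
          = x⁻¹ * (τ * (x * r * x⁻¹) * τ⁻¹ * (x * r * x⁻¹)⁻¹) * x := by group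
        _ = _ := by rw [e]; group
    rw [e']
    refine Subgroup.mul_mem_sup (hWn _ (H.inv_mem hxa) w hw) ⟨hst.ge ?_, ?_⟩
    · exact H.mul_mem (H.mul_mem (H.inv_mem hxa) hr'H) hxa
    · exact (hiffb _).2 (by simpa [mul_assoc] using hr'l)
  simpa [mul_assoc] using hWn x hxa _ key

end Cfsg.Agent.TightOddSE
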