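import Cfsg.Agent.Lib.TightOddSE.Lifts
import Cfsg.Agent.Lib.TightOddSE.TwoPoint
import Cfsg.Agent.Lib.Aschbacher.Criterion

/-!
# Tightly embedded subgroups with odd meets: the closure is split by a strongly embedded subgroup
(owner: helper67)

* `central_two` : `N(Q)` holds a Sylow 2-subgroup centralising an involution of `Q`;
* `result_of_criterion` : the statement of S1911 from `CoreFreeCriterion`.
-/

set_option autoImplicit false
set_option linter.style.haveILetI false

namespace Cfsg.Agent.TightOddSE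

open Cfsg Cfsg.Agent.Involution
open scoped commutatorElement

universe u

variable {G : Type u} [Group G]

/-- `g` moves an involution of `Q` into `N(Q)` only from inside `N(Q)`. -/
theorem mem_of_conj [Finite G] {Q : Subgroup G}
    (hodd : ∀ g : G, g ∉ Subgroup.normalizer (Q : Set G) →
      Odd (Nat.card ↥(Q.map (MulAut.conj g).toMonoidHom ⊓ Subgroup.normalizer (Q : Set G))))
    {x : G} (hx : orderOf x = 2) (hxQ : x ∈ Q) (g : G)
    (hg : g * x * g⁻¹ ∈ Subgroup.normalizer (Q : Set G)) : g ∈ Subgroup.normalizer (Q : Set G) := by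
  by_contra hgN
  exact (odd_iff_no_involution _).1 (hodd g hgN) _ ⟨⟨x, hxQ, rfl⟩, hg⟩ (by
    show orderOf (g * x * g⁻¹) = 2
    rw [Involution.orderOf_conj, hx])

variable [Finite G]

/-- `N(Q)` holds a Sylow 2-subgroup centralising an involution of `Q`. -/
theorem central_two {Q : Subgroup G} (heven : Even (Nat.card Q))
    (hmem : ∀ x : G, orderOf x = 2 → x ∈ Q → ∀ g : G,
      g * x * g⁻¹ ∈ Subgroup.normalizer (Q : Set G) → g ∈ Subgroup.normalizer (Q : Set G)) :
    ∃ (P : Sylow 2 G) (z : G), orderOf z = 2 ∧ z ∈ P ∧ z ∈ Q ∧ ∀ s ∈ P, Commute s z := by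
  haveI : Fact (Nat.Prime 2) := ⟨Nat.prime_two⟩
  set N := Subgroup.normalizer (Q : Set G) with hN
  obtain ⟨w, hwQ, hw⟩ := exists_involution_mem heven
  have hwN : w ∈ N := Subgroup.le_normalizer hwQ
  obtain ⟨T₁, hT₁⟩ := (IsPGroup.of_card (p := 2) (G := Subgroup.zpowers (⟨w, hwN⟩ : N)) (n := 1)
    (by rw [Nat.card_zpowers, Subgroup.orderOf_mk, hw, pow_one])).exists_le_sylow
  have hwT : w ∈ (T₁ : Subgroup N).map N.subtype := ⟨_, hT₁ (Subgroup.mem_zpowers _), rfl⟩
  obtain ⟨P, hP⟩ := (T₁.isPGroup'.map N.subtype).exists_le_sylow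
  have hwP : w ∈ P := hP hwT
  have hC : Subgroup.centralizer ({w} : Set G) ≤ N := fun c hc => hmem w hw hwQ c (by
    rw [mem_centralizer_singleton.1 hc, mul_inv_cancel_right]; exact hwN)
  have hPN : (P : Subgroup G) ≤ N := by
    by_contra hle
    set S : Subgroup G := (P : Subgroup G) ⊓ N
    have hST : S.subgroupOf P < ⊤ := lt_top_iff_ne_top.2 fun e => hle fun x hx =>
      ((Subgroup.subgroupOf_eq_top.1 e) hx).2
    haveI := IsPGroup.isNilpotent P.isPGroup'
    obtain ⟨⟨g, hgP⟩, hgn, hgS⟩ := SetLike.exists_of_lt (Group.normalizerCondition_of_isNilpotent _ hST)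
    have hgN : g ∉ N := fun h => hgS (Subgroup.mem_subgroupOf.2 ⟨hgP, h⟩)
    have h1 := (Subgroup.mem_normalizer_iff.1 hgn ⟨w, hwP⟩).1 (Subgroup.mem_subgroupOf.2 ⟨hwP, hwN⟩)
    exact hgN (hmem w hw hwQ g (Subgroup.mem_subgroupOf.1 h1).2)
  haveI : ((Q ⊓ (P : Subgroup G)).subgroupOf P).Normal := ⟨fun x hx t => Subgroup.mem_subgroupOf.2
    ⟨(Subgroup.mem_normalizer_iff.1 (hPN t.2) _).1 (Subgroup.mem_subgroupOf.1 hx).1, (t * x * t⁻¹).2⟩⟩
  have hne : (Q ⊓ (P : Subgroup G)).subgroupOf P ≠ ⊥ := fun e => by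
    have h1 : (⟨w, hwP⟩ : P) ∈ (Q ⊓ (P : Subgroup G)).subgroupOf P :=
      Subgroup.mem_subgroupOf.2 ⟨hwQ, hwP⟩
    rw [e, Subgroup.mem_bot] at h1
    exact ne_one hw (congrArg Subtype.val h1)
  obtain ⟨z, hzQ, hzZ, hz2⟩ := PGroup.exists_central_order_p (p := 2) P.isPGroup' hne
  exact ⟨P, z, by rw [Subgroup.orderOf_coe, hz2], z.2, (Subgroup.mem_subgroupOf.1 hzQ).1,
    fun s hs => congrArg Subtype.val (Subgroup.mem_center_iff.1 hzZ ⟨s, hs⟩)⟩

/-- The strongly embedded meet, from the core-free criterion. -/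
theorem result_of_criterion (hA : Aschbacher.CoreFreeCriterion.{u}) (Q : Subgroup G)
    (hQ : Cfsg.IsTightlyEmbedded Q)
    (hodd : ∀ g : G, g ∉ Subgroup.normalizer (Q : Set G) →
      Odd (Nat.card ↥(Q.map (MulAut.conj g).toMonoidHom ⊓ Subgroup.normalizer (Q : Set G)))) :
    Q.Normal ∨
      Cfsg.IsStronglyEmbedded ((Subgroup.normalizer (Q : Set G)).subgroupOf (Subgroup.normalClosure (Q : Set G))) := by
  haveI : Fact (Nat.Prime 2) := ⟨Nat.prime_two⟩
  rw [or_iff_not_imp_left]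
  intro hnn
  set M := Subgroup.normalizer (Q : Set G) with hM
  have hQM : Q ≤ M := Subgroup.le_normalizer
  have hMtop : M ≠ ⊤ := fun e => hnn (Subgroup.normalizer_eq_top_iff.1 e)
  obtain ⟨g₀, -, hg₀⟩ := SetLike.exists_of_lt (lt_top_iff_ne_top.2 hMtop)
  have hmem : ∀ x : G, orderOf x = 2 → x ∈ Q → ∀ g : G, g * x * g⁻¹ ∈ M → g ∈ M :=
    fun x hx hxQ g => mem_of_conj hodd hx hxQ g
  obtain ⟨P, z, hz, hzP, hzQ, hPz⟩ := central_two hQ.1 hmem
  have hzM : z ∈ M := hQM hzQ
  have hiff : ∀ g : G, g * z * g⁻¹ ∈ M ↔ g ∈ M :=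
    fun g => ⟨hmem z hz hzQ g, fun hg => M.mul_mem (M.mul_mem hg hzM) (M.inv_mem hg)⟩
  -- the core and its odd core
  set N := M.normalCore with hN
  have hNM : N ≤ M := M.normalCore_le
  have hNn : ∀ n ∈ N, ∀ g : G, g * n * g⁻¹ ∈ N := fun n hn g => (inferInstance : N.Normal).conj_mem n hn g
  set R := (pPrimeCore 2 N).map N.subtype with hR
  haveI hRn : R.Normal := Cores.map_subtype_normal_of_characteristic N _
  have hRodd : Odd (Nat.card R) := by
    rw [hR, Cores.card_map_subtype]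
    exact Nat.coprime_two_right.1 (Cores.coprime_card_pPrimeCore 2)
  have hRN : R ≤ N := Subgroup.map_subtype_le _
  have hQN : Q ⊓ N ≤ R := by
    haveI : ((Q ⊓ N).subgroupOf N).Normal := ⟨fun x hx n => Subgroup.mem_subgroupOf.2
      ⟨(Subgroup.mem_normalizer_iff.1 (hNM n.2) _).1 (Subgroup.mem_subgroupOf.1 hx).1, (n * x * n⁻¹).2⟩⟩
    have hoddQN : Odd (Nat.card ((Q ⊓ N).subgroupOf N)) := by
      rw [Cores.card_subgroupOf inf_le_right, odd_iff_no_involution]
      intro x hx hx2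
      exact hg₀ (hmem x hx2 hx.1 g₀ (hNM (hNn x hx.2 g₀)))
    intro x hx
    exact ⟨⟨x, hx.2⟩, Cores.le_pPrimeCore inferInstance (Nat.coprime_two_right.2 hoddQN)
      (Subgroup.mem_subgroupOf.2 hx), rfl⟩
  -- elements of a conjugate of `Q` meet `N` in `R`
  have hQgN : ∀ g y : G, g⁻¹ * y * g ∈ Q → y ∈ N → y ∈ R := fun g y hy hyN => by
    have h1 : g⁻¹ * y * g ∈ R := hQN ⟨hy, by simpa using hNn y hyN g⁻¹⟩
    simpa [mul_assoc] using hRn.conj_mem _ h1 g
  -- an involution in a conjugate of `Q` fixes one point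
  have hpt : ∀ g h x : G, orderOf x = 2 → g⁻¹ * x * g ∈ Q → h⁻¹ * x * h ∈ M → h⁻¹ * g ∈ M := by
    intro g h x hx hxg hxh
    refine hmem (g⁻¹ * x * g) ?_ hxg _ (by simpa [mul_assoc] using hxh)
    have := Involution.orderOf_conj g⁻¹ x
    rw [inv_inv] at this
    rw [this, hx]
  have hQconj : ∀ g h y : G, h⁻¹ * g ∈ M → g⁻¹ * y * g ∈ Q → h⁻¹ * y * h ∈ Q := fun g h y hgh hy => by
    have := (Subgroup.mem_normalizer_iff.1 hgh _).1 hy
    simpa [mul_assoc] using this
  set f := QuotientGroup.mk' N with hfdef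
  have hf : Function.Surjective f := QuotientGroup.mk'_surjective N
  have hmapM : ∀ g : G, f g ∈ M.map f ↔ g ∈ M := by
    refine fun g => ⟨?_, Subgroup.mem_map_of_mem f⟩
    rintro ⟨x, hx, hxg⟩
    have h := hNM (QuotientGroup.eq.1 hxg)
    simpa using M.mul_mem hx h
  have hf1 : ∀ {g : G}, f g = 1 ↔ g ∈ N := fun {g} => QuotientGroup.eq_one_iff g
  have hfx : ∀ {g x : G}, orderOf x = 2 → g⁻¹ * x * g ∈ Q → f x ≠ 1 := fun {g x} hx hxg e => by
    exact (odd_iff_no_involution R).1 hRodd x (hQgN g x hxg (hf1.1 e)) hx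
  have hzz : (1 : G)⁻¹ * z * 1 ∈ Q := by simpa using hzQ
  have hfz : orderOf (f z) = 2 := orderOf_of_sq (by rw [← map_mul, mul_self hz, map_one]) (hfx hz hzz)
  -- the criterion modulo the core
  have hSE := hA (G ⧸ N) (P.mapSurjective hf) (f z) (M.map f) hfz ⟨z, hzP, rfl⟩
    (by rintro _ ⟨s, hs, rfl⟩; exact (hPz s hs).map f)
    (fun h => hMtop (top_unique fun g _ => (hmapM g).1 (by rw [h]; exact Subgroup.mem_top _)))
    (by
      refine (Subgroup.eq_bot_iff_forall _).2 fun x hx => ?_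
      obtain ⟨g, rfl⟩ := hf x
      refine hf1.2 ?_
      have : (M.map f).normalCore.comap f ≤ N := Subgroup.normal_le_normalCore.2 fun a ha =>
        (hmapM a).1 (Subgroup.normalCore_le _ ha)
      exact this hx)
    (by
      intro x
      obtain ⟨g, rfl⟩ := hf x
      rw [← map_inv, ← map_mul, ← map_mul, hmapM, hmapM, hiff])
    (by
      intro x hc hne y hy
      obtain ⟨h, rfl⟩ := hf x
      obtain ⟨c, rfl⟩ := hf y
      rw [← map_inv, ← map_mul, ← map_mul] at hc hne hy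
      set e := h * z * h⁻¹ with he
      have he2 : orderOf e = 2 := by rw [he, Involution.orderOf_conj, hz]
      -- `h ∈ M`
      have hh : h ∈ M := by
        refine hmem z hz hzQ h ?_
        have h1 : (z * e * z⁻¹ * e⁻¹) ∈ N := hf1.1 (by
          rw [map_mul, map_mul, map_mul, hc.eq, map_inv, map_inv, mul_inv_cancel_right, mul_inv_cancel])
        have h2 : (z * h)⁻¹ * (z * e * z⁻¹) * (z * h) ∈ Q := by
          have : (z * h)⁻¹ * (z * e * z⁻¹) * (z * h) = z := by rw [he]; group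
          rw [this]; exact hzQ
        have h3 : h⁻¹ * (z * e * z⁻¹) * h ∈ M := by
          have h4 : h⁻¹ * e * h ∈ M := by rw [he]; simpa [mul_assoc] using hzM
          have h5 : h⁻¹ * (z * e * z⁻¹ * e⁻¹) * h ∈ M := hNM (by simpa using hNn _ h1 h⁻¹)
          have := M.mul_mem h5 h4
          simpa [mul_assoc] using this
        have h6 := hpt (z * h) h (z * e * z⁻¹) (by rw [Involution.orderOf_conj, he2]) h2 h3
        -- `z` fixes the point of `h`, hence is at it
        have h7 : h⁻¹ * z * h ∈ M := by simpa [mul_assoc] using h6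
        have h8 := hpt 1 h z hz hzz h7
        rw [mul_one, inv_mem_iff] at h8
        exact M.mul_mem (M.mul_mem h8 hzM) (M.inv_mem h8)
      have heQ : e ∈ Q := (Subgroup.mem_normalizer_iff.1 hh _).1 hzQ
      -- an involution of `Q` over the product
      have hcR : (z * e) * (z * e) ∈ R := by
        refine hQN ⟨Q.mul_mem (Q.mul_mem hzQ heQ) (Q.mul_mem hzQ heQ), hf1.1 ?_⟩
        rw [map_mul, map_mul]
        calc f z * f e * (f z * f e) = f z * (f e * f z) * f e := by group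
          _ = (f z * f z) * (f e * f e) := by rw [← hc.eq]; group
          _ = 1 := by rw [← map_mul, ← map_mul, mul_self hz, mul_self he2, map_one, mul_one]
      obtain ⟨k, hk⟩ := id hRodd
      set v := (z * e) ^ Nat.card R with hv
      have hv2 : v * v = 1 := by
        rw [hv, ← (Commute.refl (z * e)).mul_pow]
        exact orderOf_dvd_iff_pow_eq_one.1 (Subgroup.orderOf_dvd_natCard R hcR)
      have hfv : f v = f (z * e) := by
        rw [hv, hk, pow_succ, pow_mul, sq, map_mul, map_pow, hf1.2 (hRN hcR), one_pow, one_mul]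
      have hv1 : v ≠ 1 := fun h' => by
        rw [h', map_one, map_mul] at hfv
        apply hne
        rw [eq_comm] at hfv
        calc f e = f z * (f z * f e) := by rw [← mul_assoc, ← map_mul, mul_self hz, map_one, one_mul]
          _ = f z := by rw [hfv, mul_one]
      have hvQ : v ∈ Q := Q.pow_mem (Q.mul_mem hzQ heQ) _
      rw [hmapM]
      refine hmem v (orderOf_of_sq hv2 hv1) hvQ c ?_
      have h9 : f (c * v * c⁻¹) = f v := by
        rw [map_mul, map_mul, map_inv, hfv, map_mul f z e, mem_centralizer_singleton.1 hy,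
          mul_inv_cancel_right]
      refine (hmapM _).1 ?_
      rw [h9]
      exact Subgroup.mem_map_of_mem f (hQM hvQ))
  set K := Subgroup.normalClosure ({z} : Set G) with hK
  haveI hKn : K.Normal := Subgroup.normalClosure_normal
  have hzK : z ∈ K := Subgroup.subset_normalClosure rfl
  set B := Subgroup.normalClosure ({f z} : Set (G ⧸ N)) with hB
  have hBK : K.map f = B := by rw [hK, Subgroup.map_normalClosure _ f hf, Set.image_singleton]
  set HB := (M.map f).subgroupOf B with hHB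
  have hin : ∀ x ∈ K, f x ∈ B := fun x hx => hBK ▸ Subgroup.mem_map_of_mem f hx
  let zB : B := ⟨f z, hin z hzK⟩
  have hzB : orderOf zB = 2 := by rw [Subgroup.orderOf_mk, hfz]
  have hzH : zB ∈ HB := Subgroup.mem_subgroupOf.2 (Subgroup.mem_map_of_mem f hzM)
  -- `G = K M`
  have htrans : ∀ g : G, ∃ l ∈ K, ∃ m ∈ M, g = l * m := by
    intro g
    have h1 : g * z * g⁻¹ ∈ K := hKn.conj_mem z hzK g
    obtain ⟨b, hb⟩ := isConj_iff.1 (isConj_involutions hSE (s := (⟨f (g * z * g⁻¹), hin _ h1⟩ : B))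
      (t := zB) (by rw [Subgroup.orderOf_mk, map_mul, map_mul, map_inv, Involution.orderOf_conj, hfz]) hzB)
    obtain ⟨l, hl, hlb⟩ : ∃ l ∈ K, f l = (b : G ⧸ N) := hBK.ge b.2
    have h2 : f (l * (g * z * g⁻¹) * l⁻¹) = f z := by
      rw [map_mul, map_mul f l, map_inv f l, hlb]
      exact congrArg Subtype.val hb
    have h3 : l * g ∈ M := by
      refine hmem z hz hzQ _ ((hmapM _).1 ?_)
      rw [show l * g * z * (l * g)⁻¹ = l * (g * z * g⁻¹) * l⁻¹ by group, h2]
      exact Subgroup.mem_map_of_mem f hzM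
    exact ⟨l⁻¹, K.inv_mem hl, l * g, h3, by group⟩
  have hcore : HB.normalCore = ⊥ := by
    refine (Subgroup.eq_bot_iff_forall _).2 fun x hx => Subtype.ext ?_
    obtain ⟨y, hy⟩ := hf (x : G ⧸ N)
    show (x : G ⧸ N) = 1
    rw [← hy, hf1]
    show y ∈ M.normalCore
    intro g
    obtain ⟨l, hl, m, hm, e⟩ := htrans g⁻¹
    have h1 := hx ⟨f l⁻¹, hin _ (K.inv_mem hl)⟩
    rw [Subgroup.mem_subgroupOf] at h1
    simp only [Subgroup.coe_mul, Subgroup.coe_inv, ← hy, ← map_inv, ← map_mul, hmapM, inv_inv] at h1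
    have e' : g = m⁻¹ * l⁻¹ := by rw [← mul_inv_rev, ← e, inv_inv]
    rw [e', show m⁻¹ * l⁻¹ * y * (m⁻¹ * l⁻¹)⁻¹ = m⁻¹ * (l⁻¹ * y * l) * m by group]
    exact M.mul_mem (M.mul_mem (M.inv_mem hm) h1) hm
  have hgen : Subgroup.closure {x : B | orderOf x = 2} = ⊤ := by
    refine Subgroup.map_injective B.subtype_injective ?_
    rw [MonoidHom.map_closure, ← MonoidHom.range_eq_map, Subgroup.range_subtype]
    refine le_antisymm ((Subgroup.closure_le _).2 ?_) ?_
    · rintro _ ⟨x, -, rfl⟩; exact x.2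
    · rw [hB, Subgroup.normalClosure]
      refine Subgroup.closure_mono fun x hx => ?_
      obtain ⟨w, hw, hwx⟩ := Group.mem_conjugatesOfSet_iff.1 hx
      rw [Set.mem_singleton_iff] at hw
      subst hw
      exact ⟨⟨x, Subgroup.subset_closure hx⟩, by
        show orderOf _ = 2
        rw [Subgroup.orderOf_mk, ← orderOf_eq_of_isConj hwx, hfz], rfl⟩
  -- no involution of `K` lies in the core
  have hKN : ∀ c : G, orderOf c = 2 → c ∈ K → c ∈ N → False := by
    intro c hc hcK hcN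
    set R' := R.subgroupOf K
    let φ : K →* B := (f.comp K.subtype).codRestrict B fun x => hin x x.2
    have hRφ : R' ≤ φ.ker := fun x hx => Subtype.ext (hf1.2 (hRN (Subgroup.mem_subgroupOf.1 hx)))
    let π := QuotientGroup.mk' R'
    let σ : K ⧸ R' →* B := QuotientGroup.lift R' φ hRφ
    have hσ : ∀ x : K, σ (π x) = φ x := fun x => rfl
    let D : Set (K ⧸ R') := {d | ∃ (x : K) (g : G), orderOf (x : G) = 2 ∧ g⁻¹ * (x : G) * g ∈ Q ∧ π x = d}
    have hπ1 : ∀ {x : K}, π x = 1 ↔ (x : G) ∈ R := fun {x} =>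
      (QuotientGroup.eq_one_iff x).trans Subgroup.mem_subgroupOf
    have L : Lifts σ D := by
      refine ⟨?_, ?_, ?_, ?_, ?_, ?_, ?_, ?_, ?_⟩
      · intro b
        obtain ⟨l, hl, hlb⟩ : ∃ l ∈ K, f l = (b : G ⧸ N) := hBK.ge b.2
        exact ⟨π ⟨l, hl⟩, Subtype.ext hlb⟩
      · intro k hk
        obtain ⟨k, rfl⟩ := QuotientGroup.mk'_surjective R' k
        have hkN : (k : G) ∈ N := hf1.1 (congrArg Subtype.val hk)
        rw [Subgroup.mem_center_iff]
        intro y
        obtain ⟨y, rfl⟩ := QuotientGroup.mk'_surjective R' y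
        have hle : K ≤ (Subgroup.centralizer ({f.comp (MonoidHom.id G) k} : Set (G ⧸ N))).comap f := fun x hx => by
          rw [Subgroup.mem_comap, mem_centralizer_singleton, MonoidHom.comp_apply, MonoidHom.id_apply, hf1.2 hkN]
          simp
        -- commutators of members with the core
        have hcomm : ∀ x ∈ K, x * k * x⁻¹ * (k : G)⁻¹ ∈ R := by
          intro x hx
          have hx' : x ∈ Subgroup.closure (Group.conjugatesOfSet ({z} : Set G)) := hx
          induction hx' using Subgroup.closure_induction with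
          | mem d hd =>
            obtain ⟨w, hw, hwd⟩ := Group.mem_conjugatesOfSet_iff.1 hd
            rw [Set.mem_singleton_iff] at hw
            subst hw
            obtain ⟨g, rfl⟩ := isConj_iff.1 hwd
            refine hQgN g _ ?_ (N.mul_mem (hNn _ hkN _) (N.inv_mem hkN))
            have hgk : g⁻¹ * (k : G) * g ∈ M := hNM (by simpa using hNn _ hkN g⁻¹)
            have h1 := (Subgroup.mem_normalizer_iff.1 hgk w⁻¹).1 (Q.inv_mem hzQ)
            have := Q.mul_mem hzQ h1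
            simpa [mul_assoc] using this
          | one => simp
          | mul a b ha' hb' ha hb =>
            rw [show a * b * k * (a * b)⁻¹ * (k : G)⁻¹ = a * (b * k * b⁻¹ * (k : G)⁻¹) * a⁻¹ * (a * k * a⁻¹ * (k : G)⁻¹) by group]
            exact R.mul_mem (hRn.conj_mem _ (hb hb') _) (ha ha')
          | inv a ha' ha =>
            rw [show a⁻¹ * k * a⁻¹⁻¹ * (k : G)⁻¹ = a⁻¹ * (a * k * a⁻¹ * (k : G)⁻¹)⁻¹ * a⁻¹⁻¹ by group]
            exact hRn.conj_mem _ (R.inv_mem (ha ha')) _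
        have h2 : π (y * k * y⁻¹ * k⁻¹) = 1 := hπ1.2 (hcomm y y.2)
        rw [map_mul, map_mul, map_mul, map_inv, map_inv, mul_inv_eq_one, mul_inv_eq_iff_eq_mul] at h2
        exact h2
      · rintro _ ⟨x, g, hx, hxg, rfl⟩
        refine orderOf_of_sq (by rw [← map_mul, hπ1]; simp [mul_self hx]) fun e => ?_
        exact (odd_iff_no_involution R).1 hRodd _ (hπ1.1 e) hx
      · rintro y _ ⟨x, g, hx, hxg, rfl⟩
        obtain ⟨y, rfl⟩ := QuotientGroup.mk'_surjective R' y
        refine ⟨y * x * y⁻¹, (y : G) * g, ?_, ?_, by rw [map_mul, map_mul, map_inv]⟩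
        · show orderOf ((y : G) * x * (y : G)⁻¹) = 2
          rw [Involution.orderOf_conj, hx]
        · simpa [mul_assoc] using hxg
      · rintro _ ⟨x, g, hx, hxg, rfl⟩ e
        exact hfx hx hxg (congrArg Subtype.val e)
      · rintro _ ⟨x, g, hx, hxg, rfl⟩ _ ⟨y, h, hy, hyh, rfl⟩ e
        have hn : (x : G)⁻¹ * y ∈ N := QuotientGroup.eq.1 (congrArg Subtype.val e)
        have h1 : g⁻¹ * (y : G) * g ∈ M := by
          have := M.mul_mem (hQM hxg) (hNM (by simpa using hNn _ hn g⁻¹) : g⁻¹ * ((x : G)⁻¹ * y) * g ∈ M)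
          simpa [mul_assoc] using this
        have h2 := hQconj h g y (hpt h g y hy hyh h1) hyh
        refine (QuotientGroup.eq (s := R')).2 (Subgroup.mem_subgroupOf.2 ?_)
        refine hQgN g _ ?_ hn
        have := Q.mul_mem (Q.inv_mem hxg) h2
        simpa [mul_assoc] using this
      · intro b hb
        obtain ⟨β, hβ⟩ := isConj_iff.1 (isConj_involutions hSE hzB hb)
        obtain ⟨l, hl, hlb⟩ : ∃ l ∈ K, f l = (β : G ⧸ N) := hBK.ge β.2
        refine ⟨π ⟨l * z * l⁻¹, hKn.conj_mem z hzK l⟩, ⟨_, l, ?_, ?_, rfl⟩, Subtype.ext ?_⟩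
        · show orderOf (l * z * l⁻¹) = 2
          rw [Involution.orderOf_conj, hz]
        · simpa [mul_assoc] using hzQ
        · show f (l * z * l⁻¹) = _
          rw [map_mul, map_mul, map_inv, hlb]
          exact congrArg Subtype.val hβ
      · have h1 : Subgroup.closure {x : K | orderOf (x : G) = 2 ∧ ∃ g, g⁻¹ * (x : G) * g ∈ Q} = ⊤ := by
          refine Subgroup.map_injective K.subtype_injective ?_
          rw [MonoidHom.map_closure, ← MonoidHom.range_eq_map, Subgroup.range_subtype]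
          refine le_antisymm ((Subgroup.closure_le _).2 ?_) ?_
          · rintro _ ⟨x, -, rfl⟩; exact x.2
          · rw [hK, Subgroup.normalClosure]
            refine Subgroup.closure_mono fun x hx => ?_
            obtain ⟨w, hw, hwx⟩ := Group.mem_conjugatesOfSet_iff.1 hx
            rw [Set.mem_singleton_iff] at hw
            subst hw
            obtain ⟨g, rfl⟩ := isConj_iff.1 hwx
            exact ⟨⟨_, Subgroup.subset_closure hx⟩, ⟨by
              show orderOf (g * w * g⁻¹) = 2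
              rw [Involution.orderOf_conj, hz], g, by simpa [mul_assoc] using hzQ⟩, rfl⟩
        have h2 := congrArg (Subgroup.map π) h1
        rw [MonoidHom.map_closure, Subgroup.map_top_of_surjective _ (QuotientGroup.mk'_surjective R')] at h2
        refine top_le_iff.1 (h2 ▸ Subgroup.closure_mono ?_)
        rintro _ ⟨x, ⟨hx, g, hxg⟩, rfl⟩
        exact ⟨x, g, hx, hxg, rfl⟩
      · rintro _ ⟨x, g, hx, hxg, rfl⟩ _ ⟨y, h, hy, hyh, rfl⟩ hc hne
        have hn : ((y : G) * x)⁻¹ * (x * y) ∈ R := Subgroup.mem_subgroupOf.1 (QuotientGroup.eq.1 hc.symm.eq)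
        -- the two lie in one conjugate of `Q`
        have h1 : h⁻¹ * ((x : G) * y * (x : G)⁻¹) * h ∈ M := by
          have h4 : h⁻¹ * (((y : G) * x)⁻¹ * (x * y)) * h ∈ M := hNM (by simpa using hNn _ (hRN hn) h⁻¹)
          have h4' : h⁻¹ * ((x : G) * (((y : G) * x)⁻¹ * (x * y)) * (x : G)⁻¹) * h ∈ M :=
            hNM (by simpa using hNn _ (hNn _ (hRN hn) (x : G)) h⁻¹)
          have := M.mul_mem (hQM hyh) h4'
          simpa [mul_assoc] using this
        have h2 : ((x : G) * h)⁻¹ * ((x : G) * y * (x : G)⁻¹) * (x * h) ∈ Q := by simpa [mul_assoc] using hyh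
        have h3 := hpt _ h ((x : G) * y * (x : G)⁻¹) (by rw [Involution.orderOf_conj, hy]) h2 h1
        have h5 : h⁻¹ * g ∈ M := hpt g h x hx hxg (by simpa [mul_assoc] using h3)
        have hxh := hQconj g h x h5 hxg
        have hw2 : ((x : G) * y) * (x * y) ∈ R := by
          have e : π (x * y) * π (x * y) = 1 := by
            have ex : π x * π x = 1 := by rw [← map_mul, hπ1]; simp [mul_self hx]
            have ey : π y * π y = 1 := by rw [← map_mul, hπ1]; simp [mul_self hy]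
            rw [map_mul]
            calc π x * π y * (π x * π y) = π x * (π y * π x) * π y := by group
              _ = (π x * π x) * (π y * π y) := by rw [← hc.eq]; group
              _ = 1 := by rw [ex, ey, one_mul]
          rw [← map_mul] at e
          exact hπ1.1 e
        obtain ⟨k, hk⟩ := id hRodd
        have hπw : π ((x * y) ^ Nat.card R) = π x * π y := by
          rw [hk, pow_succ, pow_mul, sq, map_mul, map_pow, hπ1.2 (show ((x * y * (x * y) : K) : G) ∈ R from hw2),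
            one_pow, one_mul, map_mul]
        refine ⟨(x * y) ^ Nat.card R, h, orderOf_of_sq ?_ ?_, ?_, hπw⟩
        · rw [SubmonoidClass.coe_pow, ← (Commute.refl ((x * y : K) : G)).mul_pow]
          exact orderOf_dvd_iff_pow_eq_one.1 (Subgroup.orderOf_dvd_natCard R hw2)
        · intro e
          rw [show (x * y) ^ Nat.card R = 1 from Subtype.ext e, map_one] at hπw
          apply hne
          have ey : π y * π y = 1 := by rw [← map_mul, hπ1]; simp [mul_self hy]
          calc π x = π x * (π y * π y) := by rw [ey, mul_one]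
            _ = π y := by rw [← mul_assoc, ← hπw, one_mul]
        · have hq : h⁻¹ * ((x * y : K) : G) * h ∈ Q := by
            have := Q.mul_mem hxh hyh
            simpa [mul_assoc] using this
          have := Q.pow_mem hq (Nat.card R)
          rw [show h⁻¹ * ((x * y : K) : G) * h = h⁻¹ * ((x * y : K) : G) * h⁻¹⁻¹ by rw [inv_inv], conj_pow,
            inv_inv] at this
          exact this
    refine L.ker_odd (H := HB) hSE hcore hgen (c := π ⟨c, hcK⟩) (orderOf_of_sq ?_ fun e => ?_) ?_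
    · rw [← map_mul, hπ1]; simp [mul_self hc]
    · exact (odd_iff_no_involution R).1 hRodd _ (hπ1.1 e) hc
    · exact Subtype.ext (hf1.2 hcN)
  -- the closure of `Q`
  set KQ := Subgroup.normalClosure (Q : Set G) with hKQ
  have hKQle : KQ ≤ Q ⊔ K := by
    rw [hKQ, Subgroup.normalClosure, Subgroup.closure_le]
    intro x hx
    obtain ⟨q, hq, hqx⟩ := Group.mem_conjugatesOfSet_iff.1 hx
    obtain ⟨g, rfl⟩ := isConj_iff.1 hqx
    obtain ⟨l, hl, m, hm, rfl⟩ := htrans g
    have hmq : m * q * m⁻¹ ∈ Q := (Subgroup.mem_normalizer_iff.1 hm _).1 hq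
    rw [show l * m * q * (l * m)⁻¹ = l * (m * q * m⁻¹) * l⁻¹ by group]
    exact Subgroup.mul_mem _ (Subgroup.mul_mem _ (Subgroup.mem_sup_right hl) (Subgroup.mem_sup_left hmq))
      (Subgroup.mem_sup_right (K.inv_mem hl))
  refine Aschbacher.isStronglyEmbedded_subgroupOf (t := z) ?_ hz (Subgroup.subset_normalClosure hzQ) hzM ?_
  · intro hle
    exact hg₀ (hmem z hz hzQ g₀ (hle ((Subgroup.normalClosure_normal (s := (Q : Set G))).conj_mem z
      (Subgroup.subset_normalClosure hzQ) g₀)))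
  intro u hu huKQ huM k hkKQ hku
  by_contra hkM
  -- `u = q y` with a 2-element `y` of `K`
  obtain ⟨q₀, hq₀, y₀, hy₀, e₀⟩ := Subgroup.mem_sup_of_normal_right.1 (hKQle huKQ)
  have hy₀M : y₀ ∈ M := by
    have := M.mul_mem (M.inv_mem (hQM hq₀)) huM
    rwa [← e₀, inv_mul_cancel_left] at this
  have hy₀2 : y₀ * y₀ ∈ Q := by
    have h1 : y₀⁻¹ * q₀ * y₀ ∈ Q := by
      simpa using (Subgroup.mem_normalizer_iff.1 (M.inv_mem hy₀M) q₀).1 hq₀
    have h2 : (q₀ * y₀) * (q₀ * y₀) = 1 := by rw [e₀, mul_self hu]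
    have e : y₀ * y₀ = (q₀ * (y₀ * q₀ * y₀⁻¹))⁻¹ := by
      rw [eq_inv_iff_mul_eq_one]
      have := congrArg (fun a => q₀⁻¹ * a * q₀) h2
      simp only [mul_one, inv_mul_cancel] at this
      calc y₀ * y₀ * (q₀ * (y₀ * q₀ * y₀⁻¹)) = y₀ * (y₀ * q₀ * y₀ * q₀) * y₀⁻¹ := by group
        _ = y₀ * (q₀⁻¹ * (q₀ * y₀ * (q₀ * y₀)) * q₀) * y₀⁻¹ := by group
        _ = 1 := by rw [this]; group
    rw [e]
    exact Q.inv_mem (Q.mul_mem hq₀ ((Subgroup.mem_normalizer_iff.1 hy₀M _).1 hq₀))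
  obtain ⟨i, m, hm, hord⟩ := Nat.exists_eq_two_pow_mul_odd (orderOf_pos y₀).ne'
  obtain ⟨j, hj⟩ := id hm
  set y := y₀ ^ m with hy
  have hyK : y ∈ K := K.pow_mem hy₀ _
  have hyM : y ∈ M := M.pow_mem hy₀M _
  have hy2 : y ^ 2 ^ i = 1 := by
    rw [hy, ← pow_mul, mul_comm, ← hord, pow_orderOf_eq_one]
  have hjQ : (y₀ * y₀) ^ j ∈ Q := Q.pow_mem hy₀2 _
  set q := q₀ * ((y₀ * y₀) ^ j)⁻¹ with hq
  have hqQ : q ∈ Q := Q.mul_mem hq₀ (Q.inv_mem hjQ)
  have e : u = q * y := by
    rw [hq, hy, hj, pow_succ, pow_mul, sq, mul_assoc, inv_mul_cancel_left, e₀]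
  -- the other fixed point
  have hkK : k⁻¹ ∈ Q ⊔ K := hKQle (KQ.inv_mem hkKQ)
  rw [sup_comm] at hkK
  obtain ⟨l, hl, q', hq', ek⟩ := Subgroup.mem_sup_of_normal_left.1 hkK
  have hlM : l ∉ M := fun h => hkM (by
    rw [← inv_inv k, ← ek]; exact M.inv_mem (M.mul_mem h (hQM hq')))
  have hul : l⁻¹ * u * l ∈ M := by
    have h1 : q' * (k * u * k⁻¹) * q'⁻¹ ∈ M := M.mul_mem (M.mul_mem (hQM hq') hku) (M.inv_mem (hQM hq'))
    have e' : k = q'⁻¹ * l⁻¹ := by rw [← mul_inv_rev, ek, inv_inv]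
    rw [e'] at h1
    simpa [mul_assoc] using h1
  -- apply the two point lemma in `B`
  set W : Subgroup B := ((Q ⊓ K).map f).subgroupOf B with hW
  have hWH : W ≤ HB := Subgroup.comap_mono (Subgroup.map_mono (inf_le_left.trans hQM))
  have hWn : ∀ b ∈ HB, ∀ w ∈ W, b * w * b⁻¹ ∈ W := by
    intro b hb w hw
    rw [Subgroup.mem_subgroupOf] at hb hw ⊢
    obtain ⟨m', hm', eb⟩ := hb
    obtain ⟨x, ⟨hxQ, hxK⟩, ew⟩ := hw
    refine ⟨m' * x * m'⁻¹, ⟨(Subgroup.mem_normalizer_iff.1 hm' _).1 hxQ, hKn.conj_mem x hxK m'⟩, ?_⟩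
    rw [map_mul, map_mul, map_inv, eb, ew]
    simp
  have hkey := mem_of_twoPoint hgen hSE hcore hWH hWn hzB
    (Subgroup.mem_subgroupOf.2 ⟨z, ⟨hzQ, hzK⟩, rfl⟩)
    (τ := (⟨f y, hin y hyK⟩ : B)) (Subgroup.mem_subgroupOf.2 (Subgroup.mem_map_of_mem f hyM))
    (n := i) (Subtype.ext (by rw [SubmonoidClass.coe_pow, ← map_pow, hy2, map_one]; rfl))
    (l := ⟨f l, hin l hl⟩) (fun h => hlM ((hmapM l).1 (Subgroup.mem_subgroupOf.1 h))) (by
      intro r hr hrl
      obtain ⟨x, hxK, exr⟩ : ∃ x ∈ K, f x = (r : G ⧸ N) := hBK.ge r.2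
      have hxM : x ∈ M := (hmapM x).1 (exr ▸ Subgroup.mem_subgroupOf.1 hr)
      have hxl : l⁻¹ * x * l ∈ M := (hmapM _).1 (by
        rw [map_mul, map_mul, map_inv, exr]; exact Subgroup.mem_subgroupOf.1 hrl)
      set x' := u * x * u⁻¹ with hx'
      have hx'K : x' ∈ K := hKn.conj_mem x hxK u
      have hx'M : x' ∈ M := M.mul_mem (M.mul_mem huM hxM) (M.inv_mem huM)
      have hx'l : l⁻¹ * x' * l ∈ M := by
        have h1 := M.mul_mem (M.mul_mem hul hxl) (M.inv_mem hul)
        simpa [hx', mul_assoc] using h1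
      set w := q⁻¹ * x' * q * x'⁻¹ with hw
      have hwQ : w ∈ Q := by
        rw [hw, show q⁻¹ * x' * q * x'⁻¹ = q⁻¹ * (x' * q * x'⁻¹) by group]
        exact Q.mul_mem (Q.inv_mem hqQ) ((Subgroup.mem_normalizer_iff.1 hx'M _).1 hqQ)
      have hwK : w ∈ K := by
        rw [hw, show q⁻¹ * x' * q * x'⁻¹ = (q⁻¹ * x' * q⁻¹⁻¹) * x'⁻¹ by group]
        exact K.mul_mem (hKn.conj_mem _ hx'K _) (K.inv_mem hx'K)
      have hx'' : x' * x⁻¹ ∈ K := K.mul_mem hx'K (K.inv_mem hxK)
      refine ⟨⟨f w, hin w hwK⟩, Subgroup.mem_subgroupOf.2 ⟨w, ⟨hwQ, hwK⟩, rfl⟩,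
        ⟨f (x' * x⁻¹), hin _ hx''⟩,
        Subgroup.mem_subgroupOf.2 (Subgroup.mem_map_of_mem f (M.mul_mem hx'M (M.inv_mem hxM))), ?_, ?_⟩
      · rw [Subgroup.mem_subgroupOf]
        simp only [Subgroup.coe_mul, Subgroup.coe_inv]
        rw [← map_inv, ← map_mul, ← map_mul, hmapM,
          show l⁻¹ * (x' * x⁻¹) * l = (l⁻¹ * x' * l) * (l⁻¹ * x * l)⁻¹ by group]
        exact M.mul_mem hx'l (M.inv_mem hxl)
      · refine Subtype.ext ?_
        simp only [Subgroup.coe_mul, Subgroup.coe_inv, ← exr]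
        rw [← map_inv, ← map_inv, ← map_mul, ← map_mul, ← map_mul, ← map_mul, hw, hx', e]
        congr 1
        group)
  obtain ⟨x, ⟨hxQ, hxK⟩, exy⟩ := Subgroup.mem_subgroupOf.1 hkey
  change f x = f y at exy
  set n := x⁻¹ * y with hn
  have hnN : n ∈ N := QuotientGroup.eq.1 exy
  have hnK : n ∈ K := K.mul_mem (K.inv_mem hxK) hyK
  have hnQ : n ∈ Q := by
    have hnM := hNM hnN
    have e1 : u = q * x * n := by rw [e, hn]; group
    have hqx : q * x ∈ Q := Q.mul_mem hqQ hxQ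
    have h2 : n * n ∈ Q := by
      have h3 : (q * x * n) * (q * x * n) = 1 := by rw [← e1, mul_self hu]
      have h4 : n * n = (q * x * (n * (q * x) * n⁻¹))⁻¹ := by
        rw [eq_inv_iff_mul_eq_one]
        calc n * n * (q * x * (n * (q * x) * n⁻¹))
            = n * ((q * x)⁻¹ * ((q * x * n) * (q * x * n)) * (q * x)) * n⁻¹ := by group
          _ = 1 := by rw [h3]; group
      rw [h4]
      exact Q.inv_mem (Q.mul_mem hqx ((Subgroup.mem_normalizer_iff.1 hnM _).1 hqx))
    have hodd' : Odd (Nat.card (K ⊓ N : Subgroup G)) :=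
      (odd_iff_no_involution _).2 fun c hc hc2 => hKN c hc2 hc.1 hc.2
    obtain ⟨a, ha⟩ := hodd'.of_dvd_nat (Subgroup.orderOf_dvd_natCard _ (⟨hnK, hnN⟩ : n ∈ K ⊓ N))
    have h5 : n = (n * n) ^ (a + 1) := by
      rw [← sq, ← pow_mul, show 2 * (a + 1) = orderOf n + 1 by omega, pow_succ, pow_orderOf_eq_one, one_mul]
    rw [h5]
    exact Q.pow_mem h2 _
  refine hkM (hmem u hu ?_ k hku)
  rw [e, show q * y = q * (x * n) by rw [hn]; group]
  exact Q.mul_mem hqQ (Q.mul_mem hxQ hnQ)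

end Cfsg.Agent.TightOddSE
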